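import Groth.Agent.H27Fogarty.Family
import Groth.Agent.H27K0Var.PtBij
import Groth.Agent.H27CurveDiv.Smooth
import Mathlib

/-! # The class of a punctual Hilbert scheme from families that classify field valued points -/

set_option autoImplicit false
set_option linter.style.haveILetI false
set_option backward.isDefEq.respectTransparency false
set_option backward.isDefEq.respectTransparency.types false

universe u

open CategoryTheory CategoryTheory.Limits AlgebraicGeometry TensorProduct CommRingCat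

namespace Groth.Agent.H27PunctStrat

open H27HilbOps H27HilbAff

variable {k : Type u} [Field k] {B : Type u} [CommRing B] [Algebra k B]

local notation "σ₀" => 𝟙 (Spec (CommRingCat.of k))

/-- The subscheme of an ideal lies over one point. -/
def IsPunct (m : Ideal B) {K : Type u} [CommRing K] [Algebra k K] (I : Ideal (K ⊗[k] B)) : Prop :=
  m.map (Algebra.TensorProduct.includeRight : B →ₐ[k] K ⊗[k] B) ≤ I.radical

lemma isPunct_iff {m : PrimeSpectrum B} (hm : m.asIdeal.IsMaximal) {K : Type u} [CommRing K] [Algebra k K]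
    (I : Ideal (K ⊗[k] B)) :
    IsPunct m.asIdeal I ↔ ∀ q : PrimeSpectrum ((K ⊗[k] B) ⧸ I), PrimeSpectrum.comap
      (((Ideal.Quotient.mkₐ k I).comp (Algebra.TensorProduct.includeRight : B →ₐ[k] K ⊗[k] B)).toRingHom) q = m := by
  constructor
  · intro h q
    refine PrimeSpectrum.ext (hm.eq_of_le (PrimeSpectrum.comap _ q).2.ne_top fun b hb => ?_).symm
    have h1 := h (Ideal.mem_map_of_mem _ hb)
    obtain ⟨N, hN⟩ := h1
    have h2 : Ideal.Quotient.mk I ((Algebra.TensorProduct.includeRight : B →ₐ[k] K ⊗[k] B) b) ^ N ∈ q.asIdeal := by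
      rw [← map_pow, Ideal.Quotient.eq_zero_iff_mem.2 hN]
      exact q.asIdeal.zero_mem
    exact q.2.mem_of_pow_mem N h2
  · intro h
    rw [IsPunct, Ideal.map_le_iff_le_comap, Ideal.radical_eq_sInf]
    intro b hb
    rw [Ideal.mem_comap, Submodule.mem_sInf]
    rintro P ⟨hIP, hP⟩
    let q : PrimeSpectrum ((K ⊗[k] B) ⧸ I) := ⟨Ideal.map (Ideal.Quotient.mk I) P,
      Ideal.map_isPrime_of_surjective Ideal.Quotient.mk_surjective (by rwa [Ideal.mk_ker])⟩
    have hb' : b ∈ (PrimeSpectrum.comap (((Ideal.Quotient.mkₐ k I).comp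
      (Algebra.TensorProduct.includeRight : B →ₐ[k] K ⊗[k] B)).toRingHom) q).asIdeal := by rw [h q]; exact hb
    obtain ⟨z, hz, hzb⟩ := (Ideal.mem_map_iff_of_surjective _ Ideal.Quotient.mk_surjective).1 hb'
    have := P.add_mem (hIP ((Ideal.Quotient.mk_eq_mk_iff_sub_mem _ _).1 hzb.symm)) hz
    simpa using this

/-- The condition on the points of `H` is the condition on the ideal. -/
lemma punct_iff {d : ℕ} {H : Over (Spec (CommRingCat.of k))} (Z : HilbD.Obj (fB (R := k) (B := B) σ₀) d H)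
    {m : PrimeSpectrum B} (hm : m.asIdeal.IsMaximal) {K : Type u} [Field K] [Algebra k K] (a : TA σ₀ K ⟶ H)
    (I : Ideal (K ⊗[k] B)) (hI : famOf σ₀ I = HilbD.pull _ a Z.1) (t : (TA σ₀ K).left) :
    (∀ z : Z.1.subscheme, (Z.1.subschemeι ≫ pullback.snd _ H.hom) z = a.left t →
      (Z.1.subschemeι ≫ pullback.fst (fB (R := k) (B := B) σ₀) H.hom) z = m) ↔ IsPunct m.asIdeal I := by
  haveI : Subsingleton (TA σ₀ K).left := inferInstanceAs (Subsingleton (PrimeSpectrum K))
  rw [isPunct_iff hm]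
  let c := Spec.map (ofHom (Ideal.Quotient.mk I)) ≫ incl B σ₀ K
  have hc : c.ker = HilbD.pull (fB (R := k) (B := B) σ₀) a Z.1 := hI
  obtain ⟨v, hv'⟩ := exists_isPullback_pull (fB (R := k) (B := B) σ₀) a Z.1
  have hv := hv'.paste_vert (isPullback_XTmap (fB (R := k) (B := B) σ₀) a)
  have hfst : ∀ (w : (HilbD.pull (fB (R := k) (B := B) σ₀) a Z.1).subscheme) (q : PrimeSpectrum ((K ⊗[k] B) ⧸ I)),
      (HilbD.pull (fB (R := k) (B := B) σ₀) a Z.1).subschemeι w = c q →
      (Z.1.subschemeι ≫ pullback.fst (fB (R := k) (B := B) σ₀) H.hom) (v w) = PrimeSpectrum.comap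
        (((Ideal.Quotient.mkₐ k I).comp (Algebra.TensorProduct.includeRight : B →ₐ[k] K ⊗[k] B)).toRingHom) q := by
    intro w q hwq
    have e := fst_pull_ι (fB (R := k) (B := B) σ₀) a Z.1 hv' w
    simp only [Scheme.Hom.comp_apply] at e ⊢
    rw [← e, hwq, ← Scheme.Hom.comp_apply, Category.assoc, incl_fst, ← Spec.map_comp]
    rfl
  have hcov : ∀ w : (HilbD.pull (fB (R := k) (B := B) σ₀) a Z.1).subscheme,
      ∃ q, (HilbD.pull (fB (R := k) (B := B) σ₀) a Z.1).subschemeι w = c q := by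
    intro w
    have : (HilbD.pull (fB (R := k) (B := B) σ₀) a Z.1).subschemeι w ∈ Set.range c := by
      rw [← c.isClosedEmbedding.isClosed_range.closure_eq, ← Scheme.Hom.support_ker, hc,
        ← Scheme.IdealSheafData.range_subschemeι]
      exact ⟨w, rfl⟩
    obtain ⟨q, hq⟩ := this
    exact ⟨q, hq.symm⟩
  constructor
  · intro h q
    have : c q ∈ Set.range (HilbD.pull (fB (R := k) (B := B) σ₀) a Z.1).subschemeι := by
      rw [Scheme.IdealSheafData.range_subschemeι, ← hc, Scheme.Hom.support_ker]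
      exact subset_closure ⟨q, rfl⟩
    obtain ⟨w, hw⟩ := this
    rw [← hfst w q hw]
    refine h (v w) ?_
    have e := congr($(hv.w) w)
    simp only [Scheme.Hom.comp_apply] at e ⊢
    rw [e]
    exact congrArg a.left (Subsingleton.elim _ _)
  · intro h z hz
    obtain ⟨w, hw1, -⟩ := Scheme.Pullback.exists_preimage_pullback
      (f := Z.1.subschemeι ≫ pullback.snd _ H.hom) (g := a.left) z t hz
    let w' := hv.isoPullback.inv w
    have hvz : v w' = z := by
      rw [← Scheme.Hom.comp_apply, hv.isoPullback_inv_fst]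
      exact hw1
    obtain ⟨q, hq⟩ := hcov w'
    rw [← hvz, hfst w' q hq, h q]

variable [Algebra.FiniteType k B]

/-- The class of the punctual Hilbert scheme. -/
theorem cl_eq_sum {f : Spec (CommRingCat.of B) ⟶ Spec (CommRingCat.of k)} (hf : f = fB (R := k) (B := B) σ₀)
    {d : ℕ} {H : Over (Spec (CommRingCat.of k))} [LocallyOfFiniteType H.hom] [QuasiCompact H.hom]
    (Z : HilbD.Obj f d H) (hZ : HilbD.IsUniversal f d H Z) {m : PrimeSpectrum B} (hm : m.asIdeal.IsMaximal)
    {HP : Scheme.{u}} (ι : HP ⟶ H.left) [IsClosedImmersion ι]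
    (hι : Set.range ι = {h | ∀ z : Z.1.subscheme, (Z.1.subschemeι ≫ pullback.snd f H.hom) z = h →
      (Z.1.subschemeι ≫ pullback.fst f H.hom) z = m})
    {α : Type*} [Fintype α] (P : α → Type u) [∀ i, CommRing (P i)] [∀ i, Algebra k (P i)]
    [∀ i, Algebra.FiniteType k (P i)] [∀ i, _root_.IsReduced (P i)] (Q : ∀ i, Ideal (P i ⊗[k] B))
    (hQ : ∀ i, Module.Finite (P i) ((P i ⊗[k] B) ⧸ Q i) ∧ Module.Free (P i) ((P i ⊗[k] B) ⧸ Q i) ∧
      Module.finrank (P i) ((P i ⊗[k] B) ⧸ Q i) = d)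
    (hpunct : ∀ i (K : Type u) [Field K] [Algebra k K] (χ : P i →ₐ[k] K), IsPunct m.asIdeal ((Q i).map (bc χ)))
    (hbij : ∀ (K : Type u) [Field K] [Algebra k K] (I : Ideal (K ⊗[k] B)), Module.Finite K ((K ⊗[k] B) ⧸ I) →
      Module.finrank K ((K ⊗[k] B) ⧸ I) = d → IsPunct m.asIdeal I →
        ∃! p : Σ i, P i →ₐ[k] K, (Q p.1).map (bc p.2) = I)
    [∀ i, LocallyOfFiniteType (Spec.map (ofHom (algebraMap k (P i))))] :
    K0Var.cl (ι ≫ H.hom) = ∑ i, K0Var.cl (Spec.map (ofHom (algebraMap k (P i)))) := by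
  subst hf
  haveI : ∀ i, IsNoetherianRing (P i) := fun i => Algebra.FiniteType.isNoetherianRing k (P i)
  choose g hg hguniq using fun i => hZ (TA σ₀ (P i)) ⟨famOf σ₀ (Q i), H27Fogarty.deg_famOf (Q i) (hQ i)⟩
  have hpull : ∀ i {K : Type u} [Field K] [Algebra k K] (χ : P i →ₐ[k] K),
      HilbD.pull _ (TAmap σ₀ χ ≫ g i) Z.1 = famOf σ₀ ((Q i).map (bc χ)) := fun i K _ _ χ => by
    rw [H27HilbOps.pull_comp, hg i, pull_famOf]
  have hrange : ∀ i, Set.range (g i).left ⊆ Set.range ι := by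
    rintro i _ ⟨p, rfl⟩
    rw [hι]
    let K := p.asIdeal.ResidueField
    let χ : P i →ₐ[k] K := IsScalarTower.toAlgHom k (P i) K
    have hp : (TAmap σ₀ χ).left (IsLocalRing.closedPoint K) = p := by
      apply PrimeSpectrum.ext
      show (IsLocalRing.maximalIdeal K).comap (algebraMap (P i) K) = p.asIdeal
      rw [IsLocalRing.maximalIdeal_eq_bot, ← RingHom.ker_eq_comap_bot, Ideal.ker_algebraMap_residueField]
    have := (punct_iff Z hm (TAmap σ₀ χ ≫ g i) _ (hpull i χ).symm (IsLocalRing.closedPoint K)).2 (hpunct i K χ)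
    rw [Over.comp_left, Scheme.Hom.comp_apply, hp] at this
    exact this
  have hred : ∀ i, IsReduced (TA σ₀ (P i)).left := fun i => inferInstanceAs (IsReduced (Spec (CommRingCat.of (P i))))
  choose g' hg' using fun i => H17.exists_lift_immersion_of_range_subset (g i).left ι (hrange i)
  have hstr : ∀ i, g' i ≫ ι ≫ H.hom = Spec.map (ofHom (algebraMap k (P i))) := fun i => by
    rw [reassoc_of% hg' i, Over.w (g i)]
    exact Category.comp_id _
  haveI : ∀ i, LocallyOfFiniteType (g' i) := fun i => by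
    haveI : LocallyOfFiniteType (g' i ≫ ι ≫ H.hom) := by rw [hstr i]; infer_instance
    exact locallyOfFiniteType_of_comp (g' i) (ι ≫ H.hom)
  haveI : ∀ i, QuasiCompact (g' i) := fun i => by
    haveI : IsLocallyNoetherian HP := LocallyOfFiniteType.isLocallyNoetherian (ι ≫ H.hom)
    haveI : IsNoetherianRing (CommRingCat.of (P i)) := Algebra.FiniteType.isNoetherianRing k (P i)
    haveI : TopologicalSpace.NoetherianSpace ↥(TA σ₀ (P i)).left :=
      inferInstanceAs (TopologicalSpace.NoetherianSpace (PrimeSpectrum (P i)))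
    exact quasiCompact_of_noetherianSpace_source _
  have hb : H27K0Var.PtBij g' := by
    intro K _ y
    obtain ⟨alg, a, ha⟩ := exists_algebra_of_hom (σ := σ₀) (T := H) (y ≫ ι)
    letI := alg
    obtain ⟨I, hI⟩ := exists_famOf σ₀ (HilbD.pull (fB (R := k) (B := B) σ₀) a Z.1)
    obtain ⟨hfin, hrank⟩ := H27Fogarty.of_deg_famOf I (d := d) (hI ▸ isFinLocFreeOfDeg_pull _ a Z.1 Z.2)
    have hpun : IsPunct m.asIdeal I := (punct_iff Z hm a I hI (IsLocalRing.closedPoint K)).1 (by
      have : a.left (IsLocalRing.closedPoint K) ∈ Set.range ι := ⟨y (IsLocalRing.closedPoint K), by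
        rw [ha]; rfl⟩
      rw [hι] at this
      exact this)
    obtain ⟨⟨i, χ⟩, hχ, huniq⟩ := hbij K I hfin hrank hpun
    have hχa : TAmap σ₀ χ ≫ g i = a :=
      (hZ _ ⟨HilbD.pull _ a Z.1, isFinLocFreeOfDeg_pull _ a Z.1 Z.2⟩).unique
        (by show HilbD.pull _ _ Z.1 = _; rw [hpull, hχ, hI]) rfl
    refine ⟨⟨i, Spec.map (ofHom χ.toRingHom)⟩, ?_, ?_⟩
    · show Spec.map (ofHom χ.toRingHom) ≫ g' i = y
      rw [← cancel_mono ι, Category.assoc, hg' i, ← ha, ← hχa]
      rfl
    · rintro ⟨j, b⟩ hbj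
      have hb' : b ≫ g' j = y := hbj
      have hw : b ≫ Spec.map (ofHom (algebraMap k (P j))) ≫ σ₀ = Spec.map (ofHom (algebraMap k K)) ≫ σ₀ := by
        rw [Category.comp_id, ← hstr j, reassoc_of% hb', ← Category.assoc, ← ha]
        exact Over.w a
      obtain ⟨χ', hχ'⟩ := exists_TAmap_eq σ₀ (Over.homMk b hw : TA σ₀ K ⟶ TA σ₀ (P j))
      have hb'' : b = Spec.map (ofHom χ'.toRingHom) := by
        rw [← TAmap_left σ₀ χ', hχ']; rfl
      have ha' : TAmap σ₀ χ' ≫ g j = a := Over.OverMorphism.ext (by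
        rw [Over.comp_left, TAmap_left, ← hb'', ← hg' j, reassoc_of% hb', ha])
      have := huniq ⟨j, χ'⟩ (famOf_injective σ₀ (by
        show famOf σ₀ ((Q j).map (bc χ')) = famOf σ₀ I
        rw [← hpull, ha', hI]))
      obtain rfl : j = i := congrArg Sigma.fst this
      rw [Sigma.mk.injEq, heq_eq_eq] at this
      rw [hb'', this.2]
  rw [H27K0Var.cl_eq_sum_of_ptBij (ι ≫ H.hom) g' hb]
  refine Finset.sum_congr rfl fun i _ => ?_
  simp only [hstr i]

end Groth.Agent.H27PunctStrat
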