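import Groth.Prelude.Def_K0Var
import Mathlib

/-! # Classes of affine spaces and of affine products -/

set_option autoImplicit false
set_option linter.style.haveILetI false
set_option backward.isDefEq.respectTransparency false
set_option backward.isDefEq.respectTransparency.types false

universe u

open CategoryTheory CategoryTheory.Limits AlgebraicGeometry TensorProduct CommRingCat

namespace Groth.Agent.H27PunctStrat

variable {k : Type u} [Field k]

/-- The structure morphism of an algebra. -/
noncomputable abbrev str (k A : Type u) [CommRing k] [CommRing A] [Algebra k A] :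
    Spec (CommRingCat.of A) ⟶ Spec (CommRingCat.of k) := Spec.map (ofHom (algebraMap k A))

instance lft_str {A : Type u} [CommRing A] [Algebra k A] [Algebra.FiniteType k A] :
    LocallyOfFiniteType (str k A) :=
  (HasRingHomProperty.Spec_iff (P := @LocallyOfFiniteType)).2 (RingHom.finiteType_algebraMap.2 inferInstance)

/-- Isomorphic algebras have the same class. -/
theorem cl_congr_alg {A A' : Type u} [CommRing A] [Algebra k A] [Algebra.FiniteType k A] [CommRing A']
    [Algebra k A'] [Algebra.FiniteType k A'] (e : A ≃ₐ[k] A') : K0Var.cl (str k A) = K0Var.cl (str k A') :=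
  K0Var.cl_congr _ _ (Scheme.Spec.mapIso e.symm.toRingEquiv.toCommRingCatIso.op) (by
    show Spec.map _ ≫ Spec.map _ = Spec.map _
    rw [← Spec.map_comp]
    congr 1
    ext r
    exact e.symm.commutes r)

/-- The class of a tensor product. -/
theorem cl_tensor (A A' : Type u) [CommRing A] [Algebra k A] [Algebra.FiniteType k A] [CommRing A']
    [Algebra k A'] [Algebra.FiniteType k A'] [Algebra.FiniteType k (A ⊗[k] A')] :
    K0Var.cl (str k (A ⊗[k] A')) = K0Var.cl (str k A) * K0Var.cl (str k A') := by
  rw [← K0Var.cl_mul]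
  refine K0Var.cl_congr _ _ (pullbackSpecIso k A A').symm ?_
  show (pullbackSpecIso k A A').inv ≫ pullback.fst _ _ ≫ Spec.map _ = _
  rw [← Category.assoc, pullbackSpecIso_inv_fst, ← Spec.map_comp]
  congr 1

/-- The class of the affine line. -/
theorem cl_mvPolynomial_punit :
    K0Var.cl (str k (MvPolynomial PUnit.{u + 1} k)) = K0Var.L (Spec (CommRingCat.of k)) :=
  K0Var.cl_congr _ _ (AffineSpace.SpecIso PUnit.{u + 1} (CommRingCat.of k)).symm
    (AffineSpace.SpecIso_inv_over (CommRingCat.of k))

/-- The class of affine space. -/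
theorem cl_mvPolynomial (σ : Type u) [Fintype σ] :
    K0Var.cl (str k (MvPolynomial σ k)) = K0Var.L (Spec (CommRingCat.of k)) ^ Fintype.card σ := by
  suffices ∀ (n : ℕ) (σ : Type u) [Fintype σ], Fintype.card σ = n →
      K0Var.cl (str k (MvPolynomial σ k)) = K0Var.L (Spec (CommRingCat.of k)) ^ n from this _ σ rfl
  intro n
  induction n with
  | zero =>
    intro σ _ hσ
    haveI := Fintype.card_eq_zero_iff.1 hσ
    rw [pow_zero, cl_congr_alg (MvPolynomial.isEmptyAlgEquiv k σ), ← K0Var.cl_one]
    refine K0Var.cl_congr _ _ (Iso.refl _) ?_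
    show 𝟙 _ ≫ 𝟙 _ = Spec.map (ofHom (algebraMap k k))
    rw [Category.comp_id]
    exact (Spec.map_id _).symm
  | succ n ih =>
    intro σ _ hσ
    let e : σ ≃ ULift.{u} (Fin n) ⊕ PUnit.{u + 1} :=
      (Fintype.equivOfCardEq (by simp [hσ]))
    haveI : Algebra.FiniteType k (MvPolynomial (ULift.{u} (Fin n)) k ⊗[k] MvPolynomial PUnit.{u + 1} k) :=
      Algebra.FiniteType.equiv inferInstance (MvPolynomial.tensorEquivSum k (ULift.{u} (Fin n)) PUnit.{u + 1} k).symm
    rw [cl_congr_alg ((MvPolynomial.renameEquiv k e).trans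
      (MvPolynomial.tensorEquivSum k (ULift.{u} (Fin n)) PUnit.{u + 1} k).symm),
      cl_tensor, cl_mvPolynomial_punit, ih _ (by simp), pow_succ]

end Groth.Agent.H27PunctStrat
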